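import Mathlib
import Cfsg.Agent.Lib.Helper18.AutPSL.TvSub
import Cfsg.Agent.Lib.Helper45.SLGen

set_option autoImplicit false

/-!
Ladder MINIDX (minimal index of a proper subgroup of `PSL_n(q)`, `n ≥ 3`): definitions and the
calculus of the total transvection map `tr a φ = 1 + a φᵀ` (`= 1` when `φ ⬝ᵥ a ≠ 0`).
-/

namespace Cfsg.Agent.Lib.Helper5.MinIdx

open Matrix
open Cfsg.Agent.Lib.Helper18.AutPSL

variable {ι : Type*} [Fintype ι] [DecidableEq ι] {F : Type*} [Field F]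

/-- the transvection `1 + a φᵀ` (total version: `1` if `φ ⬝ᵥ a ≠ 0`) -/
noncomputable def tr (a φ : ι → F) : SpecialLinearGroup ι F :=
  open Classical in if h : φ ⬝ᵥ a = 0 then tv a φ h else 1

variable {a b φ ψ : ι → F}

theorem tr_eq (h : φ ⬝ᵥ a = 0) : tr a φ = tv a φ h := dif_pos h

theorem tr_of_ne (h : φ ⬝ᵥ a ≠ 0) : tr a φ = 1 := dif_neg h

theorem tr_val (h : φ ⬝ᵥ a = 0) : (tr a φ).1 = 1 + vecMulVec a φ := by
  rw [tr_eq h, tv_val]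

theorem tr_zero_left (φ : ι → F) : tr (0 : ι → F) φ = 1 := by
  rw [tr_eq (by simp)]
  exact (tv_eq_one_iff _).2 (Or.inl rfl)

theorem tr_zero_right (a : ι → F) : tr a (0 : ι → F) = 1 := by
  rw [tr_eq (by simp)]
  exact (tv_eq_one_iff _).2 (Or.inr rfl)

theorem tr_eq_one_iff (h : φ ⬝ᵥ a = 0) : tr a φ = 1 ↔ a = 0 ∨ φ = 0 := by
  rw [tr_eq h, tv_eq_one_iff]

theorem tr_add_left (h : φ ⬝ᵥ a = 0) (h' : φ ⬝ᵥ b = 0) : tr (a + b) φ = tr a φ * tr b φ := by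
  have h'' : φ ⬝ᵥ (a + b) = 0 := by rw [dotProduct_add, h, h', add_zero]
  rw [tr_eq h, tr_eq h', tr_eq h'', tv_mul_same_axis h h' h'']

theorem tr_add_right (h : φ ⬝ᵥ a = 0) (h' : ψ ⬝ᵥ a = 0) : tr a (φ + ψ) = tr a φ * tr a ψ := by
  have h'' : (φ + ψ) ⬝ᵥ a = 0 := by rw [add_dotProduct, h, h', add_zero]
  rw [tr_eq h, tr_eq h', tr_eq h'', tv_mul_same_center h h' h'']

theorem tr_neg_right (a φ : ι → F) : tr a (-φ) = (tr a φ)⁻¹ := by
  by_cases h : φ ⬝ᵥ a = 0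
  · have h' : (-φ) ⬝ᵥ a = 0 := by rw [neg_dotProduct, h, neg_zero]
    rw [tr_eq h, tr_eq h', tv_inv h h']
  · have h' : (-φ) ⬝ᵥ a ≠ 0 := by rw [neg_dotProduct]; exact neg_ne_zero.2 h
    rw [tr_of_ne h, tr_of_ne h', inv_one]

theorem tr_smul (c : F) (a φ : ι → F) : tr (c • a) φ = tr a (c • φ) := by
  by_cases h : φ ⬝ᵥ (c • a) = 0
  · have h' : (c • φ) ⬝ᵥ a = 0 := by rw [smul_dotProduct, ← dotProduct_smul]; exact h
    rw [tr_eq h, tr_eq h', tv_smul c h h']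
  · have h' : (c • φ) ⬝ᵥ a ≠ 0 := by rw [smul_dotProduct, ← dotProduct_smul]; exact h
    rw [tr_of_ne h, tr_of_ne h']

theorem tr_neg_left (a φ : ι → F) : tr (-a) φ = (tr a φ)⁻¹ := by
  rw [← tr_neg_right, ← neg_one_smul F a, tr_smul, neg_one_smul]

theorem tr_mulVec (h : φ ⬝ᵥ a = 0) (v : ι → F) : (tr a φ).1 *ᵥ v = v + (φ ⬝ᵥ v) • a := by
  rw [tr_eq h, tv_mulVec]

theorem vecMul_tr (h : φ ⬝ᵥ a = 0) (χ : ι → F) : χ ᵥ* (tr a φ).1 = χ + (χ ⬝ᵥ a) • φ := by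
  rw [tr_val h, Matrix.vecMul_add, Matrix.vecMul_one, vecMul_vecMulVec]

theorem inv_mul_val (g : SpecialLinearGroup ι F) : (g⁻¹).1 * g.1 = 1 :=
  congrArg Subtype.val (inv_mul_cancel g)

theorem mul_inv_val (g : SpecialLinearGroup ι F) : g.1 * (g⁻¹).1 = 1 :=
  congrArg Subtype.val (mul_inv_cancel g)

theorem conj_dot' (g : SpecialLinearGroup ι F) (a φ : ι → F) :
    (φ ᵥ* (g⁻¹).1) ⬝ᵥ (g.1 *ᵥ a) = φ ⬝ᵥ a := by
  rw [Matrix.dotProduct_mulVec, Matrix.vecMul_vecMul, inv_mul_val, Matrix.vecMul_one]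

/-- conjugation of transvections -/
theorem conj_tr (g : SpecialLinearGroup ι F) (a φ : ι → F) :
    g * tr a φ * g⁻¹ = tr (g.1 *ᵥ a) (φ ᵥ* (g⁻¹).1) := by
  by_cases h : φ ⬝ᵥ a = 0
  · have h' : (φ ᵥ* (g⁻¹).1) ⬝ᵥ (g.1 *ᵥ a) = 0 := by rw [conj_dot', h]
    apply Subtype.ext
    rw [tr_val h']
    show g.1 * (tr a φ).1 * (g⁻¹).1 = _
    rw [tr_val h, Matrix.mul_add, Matrix.add_mul, Matrix.mul_one, mul_inv_val,
      mul_vecMulVec, vecMulVec_mul]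
  · have h' : (φ ᵥ* (g⁻¹).1) ⬝ᵥ (g.1 *ᵥ a) ≠ 0 := by rw [conj_dot']; exact h
    rw [tr_of_ne h, tr_of_ne h', mul_one, mul_inv_cancel]

/-- the inverse transpose automorphism on transvections -/
theorem invT_tr (a φ : ι → F) : invT (tr a φ) = tr φ (-a) := by
  by_cases h : φ ⬝ᵥ a = 0
  · have h' : (-a) ⬝ᵥ φ = 0 := by rw [neg_dotProduct, dotProduct_comm, h, neg_zero]
    rw [tr_eq h, tr_eq h', invT_tv h h']
  · have h' : (-a) ⬝ᵥ φ ≠ 0 := by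
      rw [neg_dotProduct, dotProduct_comm]; exact neg_ne_zero.2 h
    rw [tr_of_ne h, tr_of_ne h', map_one]

/-- product of two transvections, matrix form -/
theorem tr_mul_tr_val (h : φ ⬝ᵥ a = 0) (h' : ψ ⬝ᵥ b = 0) :
    (tr a φ * tr b ψ).1 = 1 + vecMulVec a φ + vecMulVec b ψ + (φ ⬝ᵥ b) • vecMulVec a ψ := by
  rw [tr_eq h, tr_eq h', tv_mul_tv]

/-- commutator of two transvections -/
theorem tr_comm (h : φ ⬝ᵥ a = 0) (h' : ψ ⬝ᵥ b = 0) (h'' : ψ ⬝ᵥ a = 0) :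
    tr a φ * tr b ψ * (tr a φ)⁻¹ * (tr b ψ)⁻¹ = tr ((φ ⬝ᵥ b) • a) ψ := by
  have e1 : tr a φ * tr b ψ * (tr a φ)⁻¹ = tr (b + (φ ⬝ᵥ b) • a) ψ := by
    rw [conj_tr, tr_mulVec h, ← tr_neg_right, vecMul_tr (by rw [neg_dotProduct, h, neg_zero]), h'',
      zero_smul, add_zero]
  have h3 : ψ ⬝ᵥ ((φ ⬝ᵥ b) • a) = 0 := by rw [dotProduct_smul, h'', smul_zero]
  rw [e1, add_comm, tr_add_left h3 h', mul_assoc, mul_inv_cancel, mul_one]

/-- `SL` is generated by transvections -/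
theorem eq_top_of_tr [Nontrivial ι] (H : Subgroup (SpecialLinearGroup ι F))
    (h : ∀ a φ : ι → F, φ ⬝ᵥ a = 0 → tr a φ ∈ H) : H = ⊤ := by
  apply Cfsg.Agent.Lib.Helper45.eq_top_of_transvections
  intro i j hij c
  have h0 : (c • Pi.single j (1 : F) : ι → F) ⬝ᵥ (Pi.single i (1 : F) : ι → F) = 0 := by
    rw [smul_dotProduct, _root_.single_one_dotProduct]
    simp [hij.symm]
  have := h _ _ h0
  convert this using 1
  apply Subtype.ext
  rw [tr_val h0]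
  ext k l
  simp only [SpecialLinearGroup.transvection, Matrix.transvection, Matrix.add_apply,
    vecMulVec_apply, Pi.smul_apply, smul_eq_mul, Matrix.single_apply, Pi.single_apply]
  by_cases hk : k = i
  · by_cases hl : l = j
    · simp [hk, hl]
    · simp [hk, hl, Ne.symm hl]
  · simp [hk, Ne.symm hk]

/-- the hyperplane `{a | φ ⬝ᵥ a = 0}` -/
def kr (φ : ι → F) : Submodule F (ι → F) where
  carrier := {a | φ ⬝ᵥ a = 0}
  add_mem' := by
    intro a b ha hb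
    show φ ⬝ᵥ (a + b) = 0
    rw [dotProduct_add, ha, hb, add_zero]
  zero_mem' := by
    show φ ⬝ᵥ (0 : ι → F) = 0
    simp
  smul_mem' := by
    intro c a ha
    show φ ⬝ᵥ (c • a) = 0
    rw [dotProduct_smul, ha, smul_zero]

omit [DecidableEq ι] in
theorem mem_kr {φ a : ι → F} : a ∈ kr φ ↔ φ ⬝ᵥ a = 0 := Iff.rfl

/-- the homomorphism `a ↦ tr a φ` from the hyperplane `kr φ` -/
noncomputable def trHom (φ : ι → F) : Multiplicative (kr φ) →* SpecialLinearGroup ι F where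
  toFun a := tr (Multiplicative.toAdd a).1 φ
  map_one' := tr_zero_left φ
  map_mul' a b := tr_add_left (Multiplicative.toAdd a).2 (Multiplicative.toAdd b).2

theorem trHom_apply (φ : ι → F) (a : Multiplicative (kr φ)) :
    trHom φ a = tr (Multiplicative.toAdd a).1 φ := rfl

variable {Ω : Type*}

/-- the action twisted by the inverse transpose automorphism -/
noncomputable def dl (ρ : SpecialLinearGroup ι F →* Equiv.Perm Ω) :
    SpecialLinearGroup ι F →* Equiv.Perm Ω := ρ.comp invT.toMonoidHom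

theorem dl_apply (ρ : SpecialLinearGroup ι F →* Equiv.Perm Ω) (g : SpecialLinearGroup ι F) :
    dl ρ g = ρ (invT g) := rfl

theorem dl_tr (ρ : SpecialLinearGroup ι F →* Equiv.Perm Ω) (a φ : ι → F) :
    dl ρ (tr a φ) = ρ (tr φ (-a)) := by rw [dl_apply, invT_tr]

theorem dl_dl (ρ : SpecialLinearGroup ι F →* Equiv.Perm Ω) : dl (dl ρ) = ρ := by
  ext g : 1
  rw [dl_apply, dl_apply, invT_invT]

/-- numerical hypotheses on a permutation representation `ρ` of `SL_n(q)`: every nontrivial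
transvection has exactly `f` fixed points, the degree is `f + q^(n-1)`, and
`f < (q^(n-1)-1)/(q-1)`. -/
structure Hyp (ρ : SpecialLinearGroup ι F →* Equiv.Perm Ω) (f : ℕ) : Prop where
  fix : ∀ a φ : ι → F, a ≠ 0 → φ ≠ 0 → φ ⬝ᵥ a = 0 → Nat.card {ω // ρ (tr a φ) ω = ω} = f
  card : Nat.card Ω = f + Nat.card F ^ (Fintype.card ι - 1)
  small : f * (Nat.card F - 1) + 1 < Nat.card F ^ (Fintype.card ι - 1)

/-- case (i) for the axis `φ`: a point fixed by one nontrivial transvection with axis `φ` is fixed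
by all of them. -/
def CaseI (ρ : SpecialLinearGroup ι F →* Equiv.Perm Ω) (φ : ι → F) : Prop :=
  ∀ a b : ι → F, a ≠ 0 → φ ⬝ᵥ a = 0 → φ ⬝ᵥ b = 0 → ∀ ω, ρ (tr a φ) ω = ω → ρ (tr b φ) ω = ω

/-- case (ii) for the axis `φ`: the transvections with axis `φ` fixing `ω` are those with centre in
a subspace of codimension two. -/
def CaseII (ρ : SpecialLinearGroup ι F →* Equiv.Perm Ω) (φ : ι → F) : Prop :=
  ∀ ω, ∃ W : Submodule F (ι → F), W ≤ kr φ ∧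
    Module.finrank F W + 2 = Fintype.card ι ∧ ∀ a, φ ⬝ᵥ a = 0 → (ρ (tr a φ) ω = ω ↔ a ∈ W)

def AllI (ρ : SpecialLinearGroup ι F →* Equiv.Perm Ω) : Prop := ∀ φ : ι → F, φ ≠ 0 → CaseI ρ φ

def AllII (ρ : SpecialLinearGroup ι F →* Equiv.Perm Ω) : Prop := ∀ φ : ι → F, φ ≠ 0 → CaseII ρ φ

/-- dual of case (i): centre `a` fixed, the axis varies -/
def AllI' (ρ : SpecialLinearGroup ι F →* Equiv.Perm Ω) : Prop :=
  ∀ a : ι → F, a ≠ 0 → ∀ φ ψ : ι → F, φ ≠ 0 → φ ⬝ᵥ a = 0 → ψ ⬝ᵥ a = 0 →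
    ∀ ω, ρ (tr a φ) ω = ω → ρ (tr a ψ) ω = ω

/-- dual of case (ii) -/
def AllII' (ρ : SpecialLinearGroup ι F →* Equiv.Perm Ω) : Prop :=
  ∀ a : ι → F, a ≠ 0 → ∀ ω, ∃ W : Submodule F (ι → F), W ≤ kr a ∧
    Module.finrank F W + 2 = Fintype.card ι ∧ ∀ φ, φ ⬝ᵥ a = 0 → (ρ (tr a φ) ω = ω ↔ φ ∈ W)

/-- a subgroup `H` of `SL` containing no nontrivial transvection and such that every group
`{tr a φ | φ ⬝ᵥ a = 0}` (`φ ≠ 0`) is transitive on the cosets of `H`. -/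
structure NR (H : Subgroup (SpecialLinearGroup ι F)) : Prop where
  no_tr : ∀ a φ : ι → F, φ ⬝ᵥ a = 0 → tr a φ ∈ H → a = 0 ∨ φ = 0
  reg : ∀ φ : ι → F, φ ≠ 0 → ∀ g : SpecialLinearGroup ι F, ∃ a, φ ⬝ᵥ a = 0 ∧ tr a φ * g ∈ H

/-- `b` is the vector attached to the covector `ψ` (for the flag `v`, `φ`). -/
def PP (H : Subgroup (SpecialLinearGroup ι F)) (v φ ψ b : ι → F) : Prop :=
  φ ⬝ᵥ b = 0 ∧ tr b φ * tr v ψ ∈ H

end Cfsg.Agent.Lib.Helper5.MinIdx
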