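import Mathlib
import Cfsg.Agent.Lib.Helper5.MinIdx.Defs

set_option autoImplicit false

namespace Cfsg.Agent.Lib.Helper5.MinIdx

open Matrix
open Cfsg.Agent.Lib.Helper18.AutPSL

variable {ι : Type*} [Fintype ι] [DecidableEq ι] {F : Type*} [Field F] {Ω : Type*}

/-- conjugacy of (vector, covector) pairs under `SL` -/
def Cj (a φ a' φ' : ι → F) : Prop :=
  ∃ g : SpecialLinearGroup ι F, g.1 *ᵥ a = a' ∧ φ ᵥ* (g⁻¹).1 = φ'

theorem Cj.trans {a φ a' φ' a'' φ'' : ι → F} (h1 : Cj a φ a' φ') (h2 : Cj a' φ' a'' φ'') :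
    Cj a φ a'' φ'' := by
  obtain ⟨g1, e1, f1⟩ := h1
  obtain ⟨g2, e2, f2⟩ := h2
  refine ⟨g2 * g1, ?_, ?_⟩
  · show (g2.1 * g1.1) *ᵥ a = a''
    rw [← Matrix.mulVec_mulVec, e1, e2]
  · rw [_root_.mul_inv_rev]
    show φ ᵥ* ((g1⁻¹).1 * (g2⁻¹).1) = φ''
    rw [← Matrix.vecMul_vecMul, f1, f2]

theorem cj_A0 {a φ φ' : ι → F} (hφ : φ ≠ 0) (h : φ ⬝ᵥ a = 0) (h' : φ' ⬝ᵥ a = 0)
    (hn : ∀ c : F, φ' ≠ c • φ) : Cj a φ a φ' := by
  obtain ⟨k, hk1, hk2⟩ := exists_sep (φ := φ) (ψ := φ' - φ) hφ (by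
    intro c hc
    apply hn (c + 1)
    rw [add_smul, one_smul, ← hc, sub_add_cancel])
  set k' := (-(φ ⬝ᵥ k)⁻¹) • k with hk'
  have h1 : (φ' - φ) ⬝ᵥ k' = 0 := by rw [hk', dotProduct_smul, hk1, smul_zero]
  have h2 : φ ⬝ᵥ k' = -1 := by
    rw [hk', dotProduct_smul, smul_eq_mul, neg_mul, inv_mul_cancel₀ hk2]
  refine ⟨tr k' (φ' - φ), ?_, ?_⟩
  · rw [tr_mulVec h1, sub_dotProduct, h', h, sub_zero, zero_smul, add_zero]
  · rw [← tr_neg_right, vecMul_tr (by rw [neg_dotProduct, h1, neg_zero]), h2]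
    simp

theorem cj_A (h3 : 3 ≤ Fintype.card ι) {a φ φ' : ι → F} (hφ : φ ≠ 0) (hφ' : φ' ≠ 0)
    (h : φ ⬝ᵥ a = 0) (h' : φ' ⬝ᵥ a = 0) : Cj a φ a φ' := by
  by_cases hn : ∀ c : F, φ' ≠ c • φ
  · exact cj_A0 hφ h h' hn
  · push Not at hn
    obtain ⟨c, rfl⟩ := hn
    have hc : c ≠ 0 := by rintro rfl; exact hφ' (zero_smul _ _)
    obtain ⟨i, hi⟩ := exists_ne_zero_entry hφ
    obtain ⟨χ, hχ0, hχa, hχw⟩ := exists_common_zero h3 a (Pi.single i 1)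
    rw [dotProduct_comm] at hχa hχw
    have hχi : χ i = 0 := by simpa using hχw
    have n1 : ∀ d : F, χ ≠ d • φ := by
      intro d hd
      have : d * φ i = 0 := by rw [← hχi, hd]; rfl
      rcases mul_eq_zero.1 this with rfl | h0
      · exact hχ0 (by rw [hd, zero_smul])
      · exact hi h0
    have n2 : ∀ d : F, c • φ ≠ d • χ := by
      intro d hd
      have : c * φ i = d * χ i := congrFun hd i
      rw [hχi, mul_zero] at this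
      exact (mul_ne_zero hc hi) this
    exact (cj_A0 hφ h hχa n1).trans (cj_A0 hχ0 hχa h' n2)

theorem cj_B0 {a a' φ : ι → F} (ha : a ≠ 0) (h : φ ⬝ᵥ a = 0) (h' : φ ⬝ᵥ a' = 0)
    (hn : ∀ c : F, a' ≠ c • a) : Cj a φ a' φ := by
  obtain ⟨ψ, hψ1, hψ2⟩ := exists_sep (φ := a) (ψ := a' - a) ha (by
    intro c hc
    apply hn (c + 1)
    rw [add_smul, one_smul, ← hc, sub_add_cancel])
  set ψ' := ((a ⬝ᵥ ψ)⁻¹) • ψ with hψ'
  have h1 : ψ' ⬝ᵥ (a' - a) = 0 := by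
    rw [hψ', smul_dotProduct, dotProduct_comm ψ, hψ1, smul_zero]
  have h2 : ψ' ⬝ᵥ a = 1 := by
    rw [hψ', smul_dotProduct, dotProduct_comm ψ, smul_eq_mul, inv_mul_cancel₀ hψ2]
  refine ⟨tr (a' - a) ψ', ?_, ?_⟩
  · rw [tr_mulVec h1, h2, one_smul, add_sub_cancel]
  · rw [← tr_neg_right, vecMul_tr (by rw [neg_dotProduct, h1, neg_zero]), dotProduct_sub, h', h,
      sub_zero, zero_smul, add_zero]

theorem cj_B (h3 : 3 ≤ Fintype.card ι) {a a' φ : ι → F} (ha : a ≠ 0) (ha' : a' ≠ 0)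
    (h : φ ⬝ᵥ a = 0) (h' : φ ⬝ᵥ a' = 0) : Cj a φ a' φ := by
  by_cases hn : ∀ c : F, a' ≠ c • a
  · exact cj_B0 ha h h' hn
  · push Not at hn
    obtain ⟨c, rfl⟩ := hn
    have hc : c ≠ 0 := by rintro rfl; exact ha' (zero_smul _ _)
    obtain ⟨i, hi⟩ := exists_ne_zero_entry ha
    obtain ⟨χ, hχ0, hχa, hχw⟩ := exists_common_zero h3 φ (Pi.single i 1)
    have hχi : χ i = 0 := by simpa using hχw
    have n1 : ∀ d : F, χ ≠ d • a := by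
      intro d hd
      have : d * a i = 0 := by rw [← hχi, hd]; rfl
      rcases mul_eq_zero.1 this with rfl | h0
      · exact hχ0 (by rw [hd, zero_smul])
      · exact hi h0
    have n2 : ∀ d : F, c • a ≠ d • χ := by
      intro d hd
      have : c * a i = d * χ i := congrFun hd i
      rw [hχi, mul_zero] at this
      exact (mul_ne_zero hc hi) this
    exact (cj_B0 ha h hχa n1).trans (cj_B0 hχ0 hχa h' n2)

/-- RUNG CONJ. `SL_n`, `n ≥ 3`, is transitive on the pairs (vector, covector), both nonzero, with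
`φ ⬝ᵥ a = 0`. -/
theorem exists_conj (h3 : 3 ≤ Fintype.card ι) {a φ a' φ' : ι → F} (ha : a ≠ 0) (hφ : φ ≠ 0)
    (h : φ ⬝ᵥ a = 0) (ha' : a' ≠ 0) (hφ' : φ' ≠ 0) (h' : φ' ⬝ᵥ a' = 0) :
    ∃ g : SpecialLinearGroup ι F, g.1 *ᵥ a = a' ∧ φ ᵥ* (g⁻¹).1 = φ' := by
  obtain ⟨c, hc0, hc1, hc2⟩ := exists_common_zero h3 φ φ'
  exact ((cj_B h3 ha hc0 h hc1).trans (cj_A h3 hφ hφ' hc1 hc2)).trans (cj_B h3 hc0 ha' hc2 h')

end Cfsg.Agent.Lib.Helper5.MinIdx
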