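import Mathlib
import Cfsg.Agent.Lib.Helper5.MinIdx.Defs

set_option autoImplicit false

namespace Cfsg.Agent.Lib.Helper5.MinIdx

open Matrix
open Cfsg.Agent.Lib.Helper18.AutPSL

variable {ι : Type*} [Fintype ι] [DecidableEq ι] {F : Type*} [Field F] {Ω : Type*}

/-- the linear map `φ ↦ (a ↦ φ ⬝ᵥ a)`. -/
def linD : (ι → F) →ₗ[F] Module.Dual F (ι → F) where
  toFun φ :=
    { toFun := fun a => φ ⬝ᵥ a
      map_add' := dotProduct_add φ
      map_smul' := fun c a => by simp [dotProduct_smul] }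
  map_add' φ ψ := by
    ext a
    simp [add_dotProduct]
  map_smul' c φ := by
    ext a
    simp [smul_dotProduct]

theorem linD_apply (φ a : ι → F) : linD φ a = φ ⬝ᵥ a := rfl

theorem linD_injective : Function.Injective (linD : (ι → F) → Module.Dual F (ι → F)) := by
  intro φ ψ h
  ext i
  have := congrArg (fun f => f (Pi.single i 1)) h
  simpa [linD_apply] using this

theorem linD_surjective : Function.Surjective (linD : (ι → F) → Module.Dual F (ι → F)) := by
  intro f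
  refine ⟨fun i => f (Pi.single i 1), ?_⟩
  ext i
  simp [linD_apply]

theorem kr_eq_ker (φ : ι → F) : kr φ = LinearMap.ker (linD φ) := by
  ext a
  rfl

/-- RUNG LIN (1). -/
theorem finrank_kr {φ : ι → F} (hφ : φ ≠ 0) : Module.finrank F (kr φ) + 1 = Fintype.card ι := by
  have h : linD φ ≠ 0 := by
    intro h
    apply hφ
    apply linD_injective
    rw [h, map_zero]
  rw [kr_eq_ker, Module.Dual.finrank_ker_add_one_of_ne_zero h, Module.finrank_fintype_fun_eq_card]

/-- RUNG LIN (2). -/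
theorem card_kr [Finite F] {φ : ι → F} (hφ : φ ≠ 0) :
    Nat.card (kr φ) = Nat.card F ^ (Fintype.card ι - 1) := by
  rw [Module.natCard_eq_pow_finrank (K := F), ← finrank_kr hφ, Nat.add_sub_cancel]

theorem lin_exists_of_notMem {p : Submodule F (ι → F)} {a : ι → F} (ha : a ∉ p) (c : F) :
    ∃ ψ : ι → F, (∀ x ∈ p, ψ ⬝ᵥ x = 0) ∧ ψ ⬝ᵥ a = c := by
  obtain ⟨f, hf, hp⟩ := Submodule.exists_dual_map_eq_bot_of_notMem ha inferInstance
  obtain ⟨ψ, rfl⟩ := linD_surjective f
  refine ⟨(c / (ψ ⬝ᵥ a)) • ψ, ?_, ?_⟩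
  · intro x hx
    have h1 : linD ψ x ∈ p.map (linD ψ) := ⟨x, hx, rfl⟩
    rw [hp, Submodule.mem_bot, linD_apply] at h1
    rw [smul_dotProduct, h1, smul_zero]
  · rw [linD_apply] at hf
    rw [smul_dotProduct, smul_eq_mul, div_mul_cancel₀ _ hf]

/-- RUNG LIN (3): a covector vanishing at `k` with prescribed value at `a ∉ F k`. -/
theorem exists_dual {a k : ι → F} (h : ∀ c : F, a ≠ c • k) (c : F) :
    ∃ ψ : ι → F, ψ ⬝ᵥ k = 0 ∧ ψ ⬝ᵥ a = c := by
  have ha : a ∉ Submodule.span F {k} := by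
    rw [Submodule.mem_span_singleton]
    rintro ⟨d, hd⟩
    exact h d hd.symm
  obtain ⟨ψ, h1, h2⟩ := lin_exists_of_notMem ha c
  exact ⟨ψ, h1 k (Submodule.mem_span_singleton_self k), h2⟩

/-- RUNG LIN (4): a covector vanishing at `k`, `l` with prescribed value at `a ∉ F k + F l`. -/
theorem exists_dual₂ {a k l : ι → F} (h : ∀ c d : F, a ≠ c • k + d • l) (c : F) :
    ∃ ψ : ι → F, ψ ⬝ᵥ k = 0 ∧ ψ ⬝ᵥ l = 0 ∧ ψ ⬝ᵥ a = c := by
  have ha : a ∉ Submodule.span F {k, l} := by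
    rw [Submodule.mem_span_pair]
    rintro ⟨d, e, hd⟩
    exact h d e hd.symm
  obtain ⟨ψ, h1, h2⟩ := lin_exists_of_notMem ha c
  exact ⟨ψ, h1 k (Submodule.subset_span (by simp)), h1 l (Submodule.subset_span (by simp)), h2⟩

/-- RUNG LIN (5): a proper subspace lies in a hyperplane `kr φ`. -/
theorem exists_le_kr {U : Submodule F (ι → F)} (hU : U ≠ ⊤) : ∃ φ : ι → F, φ ≠ 0 ∧ U ≤ kr φ := by
  obtain ⟨a, ha⟩ : ∃ a, a ∉ U := by
    by_contra hcon
    exact hU (eq_top_iff.2 fun x _ => by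
      by_contra hx
      exact hcon ⟨x, hx⟩)
  obtain ⟨ψ, h1, h2⟩ := lin_exists_of_notMem ha 1
  refine ⟨ψ, ?_, fun x hx => h1 x hx⟩
  rintro rfl
  simp at h2

/-- RUNG LIN (6): the common zeros of a space of covectors. -/
theorem finrank_perp (Γ : Submodule F (ι → F)) :
    Module.finrank F Γ + Module.finrank F (⨅ φ ∈ Γ, kr φ : Submodule F (ι → F)) = Fintype.card ι := by
  have h1 := Subspace.finrank_add_finrank_dualCoannihilator_eq (Γ.map (linD : (ι → F) →ₗ[F] _))
  have h2 : Module.finrank F (Γ.map (linD : (ι → F) →ₗ[F] _)) = Module.finrank F Γ :=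
    (LinearEquiv.finrank_eq (Submodule.equivMapOfInjective _ linD_injective Γ)).symm
  have h3 : (Γ.map (linD : (ι → F) →ₗ[F] _)).dualCoannihilator
      = (⨅ φ ∈ Γ, kr φ : Submodule F (ι → F)) := by
    ext a
    rw [Submodule.mem_dualCoannihilator]
    simp only [Submodule.mem_iInf, mem_kr]
    constructor
    · intro h φ hφ
      exact h _ ⟨φ, hφ, rfl⟩
    · rintro h _ ⟨φ, hφ, rfl⟩
      exact h φ hφ
  rw [h2, h3, Module.finrank_fintype_fun_eq_card] at h1
  exact h1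

end Cfsg.Agent.Lib.Helper5.MinIdx
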